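import Groth.Agent.TowerLib.LimOne
import Groth.Agent.SiteBase.DLim.Rlim
import Mathlib.Algebra.Homology.HomologicalComplexAbelian

/-! Cohomology sheaves of the limit of a tower of complexes of sheaves, stable on a covering class. -/

set_option autoImplicit false

universe u

open CategoryTheory CategoryTheory.Limits Opposite

namespace Groth.Agent.TowerLib

variable {C : Type u} [SmallCategory C] {J : GrothendieckTopology C}

/-- A morphism of complexes of sheaves inducing bijections on the cohomology of sections over a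
covering class induces an isomorphism of cohomology sheaves. -/
theorem isIso_homologyMap_of_sectCx {K L : CochainComplex (Sheaf J AddCommGrpCat.{u}) ℤ} (φ : K ⟶ L)
    (m : ℤ) {B : Set C} (hB : DLim.IsCoveredBy J B)
    (h : ∀ U ∈ B, IsIso (HomologicalComplex.homologyMap ((CohCx.sectCx J U).map φ) m)) :
    IsIso (HomologicalComplex.homologyMap φ m) := by
  let F := sheafToPresheaf J AddCommGrpCat.{u}
  let G := presheafToSheaf J AddCommGrpCat.{u}
  let ψ := (F.mapHomologicalComplex (ComplexShape.up ℤ)).map φ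
  let sψ := (HomologicalComplex.shortComplexFunctor _ (ComplexShape.up ℤ) m).map ψ
  have hU : ∀ U ∈ B, Function.Bijective ((ShortComplex.homologyMap sψ).app (op U)).hom := by
    intro U hU
    have : IsIso (((evaluation Cᵒᵖ AddCommGrpCat.{u}).obj (op U)).map
        (ShortComplex.homologyMap sψ)) :=
      (NatIso.isIso_map_iff (ShortComplex.homologyFunctorIso
        ((evaluation Cᵒᵖ AddCommGrpCat.{u}).obj (op U))) sψ).1 (h U hU)
    exact ConcreteCategory.bijective_of_isIso (((evaluation Cᵒᵖ AddCommGrpCat.{u}).obj (op U)).map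
        (ShortComplex.homologyMap sψ))
  have h1 : Presheaf.IsLocallyInjective J (ShortComplex.homologyMap sψ) := by
    constructor
    intro X x y e
    obtain ⟨ι, Y, f, hf, hY⟩ := hB X.unop
    refine J.superset_covering ?_ hf
    rintro Z k ⟨Z', a, b, ⟨i⟩, rfl⟩
    refine Presheaf.equalizerSieve x y |>.downward_closed ?_ a
    refine (hU _ (hY i)).1 ?_
    exact (ConcreteCategory.congr_hom ((ShortComplex.homologyMap sψ).naturality (f i).op) x).trans
      ((congrArg _ e).trans
        (ConcreteCategory.congr_hom ((ShortComplex.homologyMap sψ).naturality (f i).op) y).symm)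
  have h2 : Presheaf.IsLocallySurjective J (ShortComplex.homologyMap sψ) := by
    constructor
    intro U s
    obtain ⟨ι, Y, f, hf, hY⟩ := hB U
    refine J.superset_covering ?_ hf
    rintro Z k ⟨Z', a, b, ⟨i⟩, rfl⟩
    refine Presheaf.imageSieve (ShortComplex.homologyMap sψ) s |>.downward_closed ?_ a
    exact (hU _ (hY i)).2 _
  have hG : IsIso (G.map (ShortComplex.homologyMap sψ)) :=
    (GrothendieckTopology.W_iff J _).1
      ((J.W_iff_isLocallyBijective _).2 ⟨h1, h2⟩)
  have hG' : IsIso (HomologicalComplex.homologyMap ((G.mapHomologicalComplex _).map ψ) m) :=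
    (NatIso.isIso_map_iff (ShortComplex.homologyFunctorIso G) sψ).2 hG
  let e : (F ⋙ G).mapHomologicalComplex (ComplexShape.up ℤ) ≅
      (𝟭 (Sheaf J AddCommGrpCat.{u})).mapHomologicalComplex (ComplexShape.up ℤ) :=
    NatIso.mapHomologicalComplex (asIso (sheafificationAdjunction J AddCommGrpCat.{u}).counit) _
  exact (NatIso.isIso_map_iff (Functor.isoWhiskerRight e
    (HomologicalComplex.homologyFunctor _ _ m)) φ).1 hG'

/-- A composite transition map is a map of the diagram. -/
lemma exists_transition_eq {T : Type*} [Category T] (K : ℕ → T) (t : ∀ n, K (n + 1) ⟶ K n)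
    (n : ℕ) : ∀ k : ℕ, ∃ h : n ≤ n + k,
      CohCx.transition K t n k = (CohCx.opSequence K t).map (homOfLE h).op
  | 0 => ⟨le_rfl, ((CohCx.opSequence K t).map_id (op n)).symm⟩
  | k + 1 => by
    obtain ⟨h, e⟩ := exists_transition_eq K t n k
    refine ⟨h.trans (Nat.le_add_right (n + k) 1), ?_⟩
    show t (n + k) ≫ CohCx.transition K t n k = _
    rw [show (homOfLE (h.trans (Nat.le_add_right (n + k) 1)) : n ⟶ n + k + 1).op =
      (homOfLE (Nat.le_add_right (n + k) 1)).op ≫ (homOfLE h).op from rfl, Functor.map_comp, ← e]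
    exact congrArg (· ≫ _) (Functor.ofOpSequence_map_homOfLE_succ t (n + k)).symm

theorem isIso_homologyMap_limit_π
    (F : ℕ → CochainComplex (Sheaf J AddCommGrpCat.{u}) ℤ) (t : ∀ n, F (n + 1) ⟶ F n) (m : ℤ)
    {B : Set C} (hB : DLim.IsCoveredBy J B) (n₀ : ℕ)
    (ha : ∀ U ∈ B, ∀ j : ℤ, (j = m - 2 ∨ j = m - 1) →
      CohCx.LimOneIsZero (fun n => ((F n).X j).obj.obj (op U)) (fun n => (((t n).f j).hom.app (op U)).hom))
    (hb : ∀ U ∈ B, CohCx.LimOneIsZero
      (fun n => ((CohCx.sectCx J U).obj (F n)).homology (m - 1))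
      (fun n => (HomologicalComplex.homologyMap ((CohCx.sectCx J U).map (t n)) (m - 1)).hom))
    (hc : ∀ U ∈ B, ∀ k : ℕ, IsIso (HomologicalComplex.homologyMap
      ((CohCx.sectCx J U).map (CohCx.transition F t n₀ k)) m)) :
    IsIso (HomologicalComplex.homologyMap (limit.π (CohCx.opSequence F t) (op n₀)) m) := by
  refine isIso_homologyMap_of_sectCx _ m hB fun U hU => ?_
  let D := CohCx.opSequence F t
  let K := D ⋙ CohCx.sectCx J U
  have hs : ∀ n, D.map (homOfLE (Nat.le_add_right n 1)).op = t n :=
    Functor.ofOpSequence_map_homOfLE_succ t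
  have hX : ∀ j, (j = m - 2 ∨ j = m - 1) → LimX K j := fun j hj a => by
    obtain ⟨b, hb⟩ := ha U hU j hj a
    refine ⟨b, fun n => ?_⟩
    have e : fX K j (Nat.le_add_right n 1) = ((CohCx.sectCx J U).map (t n)).f j :=
      congrArg (fun φ => ((CohCx.sectCx J U).map φ).f j) (hs n)
    rw [e]
    exact congrFun hb n
  have hH : LimH K (m - 1) := fun a => by
    obtain ⟨b, hb⟩ := hb U hU a
    refine ⟨b, fun n => ?_⟩
    have e : trH K (m - 1) (Nat.le_add_right n 1) =
        HomologicalComplex.homologyMap ((CohCx.sectCx J U).map (t n)) (m - 1) :=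
      congrArg (fun φ => HomologicalComplex.homologyMap ((CohCx.sectCx J U).map φ) (m - 1)) (hs n)
    rw [e]
    exact congrFun hb n
  have hI : ∀ n (h : n₀ ≤ n), IsIso (trH K m h) := fun n h => by
    obtain ⟨k, rfl⟩ := Nat.exists_eq_add_of_le h
    obtain ⟨h', e⟩ := exists_transition_eq F t n₀ k
    have := hc U hU k
    rw [e] at this
    exact this
  have := isIso_homologyMap_π K m n₀ hI (hX _ (Or.inr rfl)) (hX _ (Or.inl rfl)) hH
  have : PreservesLimit D (CohCx.sectCx J U) := inferInstance
  rw [← preservesLimitIso_hom_π (CohCx.sectCx J U) D (op n₀), HomologicalComplex.homologyMap_comp]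
  exact IsIso.comp_isIso' (inferInstanceAs (IsIso ((HomologicalComplex.homologyFunctor _ _ m).map
    (preservesLimitIso (CohCx.sectCx J U) D).hom))) ‹_›

end Groth.Agent.TowerLib
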