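import Mathlib.CategoryTheory.Abelian.Injective.Basic
import Mathlib.CategoryTheory.Abelian.FunctorCategory
import Mathlib.CategoryTheory.Limits.Shapes.FiniteProducts
import Mathlib.CategoryTheory.Functor.OfSequence

/-! Injective towers in an abelian category: injective components, split epimorphic transitions. -/

universe v u

open CategoryTheory CategoryTheory.Limits Opposite

namespace Groth.Agent.TowerLib

variable {C : Type u} [Category.{v} C] [Abelian C]

/-- The constant tower `A` up to `n`, zero afterwards: left adjoint of evaluation at `n`. -/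
noncomputable def upTo (A : C) (n : ℕ) : ℕᵒᵖ ⥤ C where
  obj k := ∐ fun _ : PLift (k.unop ≤ n) => A
  map {k k'} f := Sigma.desc fun h =>
    Sigma.ι (fun _ : PLift (k'.unop ≤ n) => A) ⟨(leOfHom f.unop).trans h.down⟩
  map_id k := Sigma.hom_ext _ _ fun h => by simp
  map_comp f g := Sigma.hom_ext _ _ fun h => by simp

noncomputable abbrev upToι (A : C) {k n : ℕ} (h : k ≤ n) : A ⟶ (upTo A n).obj (op k) :=
  Sigma.ι (fun _ : PLift (k ≤ n) => A) ⟨h⟩

lemma isIso_upToι (A : C) {k n : ℕ} (h : k ≤ n) : IsIso (upToι A h) :=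
  ⟨Sigma.desc fun _ => 𝟙 A, Sigma.ι_desc _ _, Sigma.hom_ext _ _ fun g => by
    obtain rfl : g = ⟨h⟩ := Subsingleton.elim _ _
    exact (Sigma.ι_desc_assoc _ _ _).trans ((Category.id_comp _).trans (Category.comp_id _).symm)⟩

lemma isZero_upTo (A : C) {k : ℕᵒᵖ} {n : ℕ} (h : ¬ k.unop ≤ n) : IsZero ((upTo A n).obj k) :=
  (IsZero.iff_id_eq_zero _).2 (Sigma.hom_ext _ _ fun g => absurd g.down h)

/-- Morphisms out of `upTo`. -/
noncomputable def upToLift {A : C} {n : ℕ} {T : ℕᵒᵖ ⥤ C} (g : A ⟶ T.obj (op n)) : upTo A n ⟶ T where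
  app k := Sigma.desc fun h => g ≫ T.map ((homOfLE h.down).op : op n ⟶ k)
  naturality k k' f := Sigma.hom_ext _ _ fun h => by
    show Sigma.ι _ h ≫ Sigma.desc _ ≫ Sigma.desc _ = Sigma.ι _ h ≫ Sigma.desc _ ≫ T.map f
    simp only [Sigma.ι_desc_assoc, Sigma.ι_desc, Category.assoc, ← T.map_comp]
    rfl

@[reassoc]
lemma upToι_lift {A : C} {n : ℕ} {T : ℕᵒᵖ ⥤ C} (g : A ⟶ T.obj (op n)) :
    upToι A le_rfl ≫ (upToLift g).app (op n) = g := by
  refine (Sigma.ι_desc _ _).trans ?_
  rw [Subsingleton.elim (homOfLE (le_rfl : n ≤ n)) (𝟙 n), op_id, T.map_id, Category.comp_id]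

set_option backward.isDefEq.respectTransparency false in
/-- Functoriality of `upTo` in both variables. -/
noncomputable def upToMap {A B : C} (f : A ⟶ B) {n m : ℕ} (hnm : n ≤ m) : upTo A n ⟶ upTo B m where
  app k := Sigma.desc fun h => f ≫ Sigma.ι (fun _ : PLift (k.unop ≤ m) => B) ⟨h.down.trans hnm⟩
  naturality k k' g := Sigma.hom_ext _ _ fun h => by
    show Sigma.ι _ h ≫ Sigma.desc _ ≫ Sigma.desc _ = Sigma.ι _ h ≫ Sigma.desc _ ≫ Sigma.desc _
    simp

lemma upToι_map {A B : C} (f : A ⟶ B) {k n m : ℕ} (h : k ≤ n) (hnm : n ≤ m) :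
    upToι A h ≫ (upToMap f hnm).app (op k) = f ≫ upToι B (h.trans hnm) :=
  Sigma.ι_desc _ _

lemma mono_upToMap {A B : C} (f : A ⟶ B) [Mono f] {n m : ℕ} (hnm : n ≤ m) :
    Mono (upToMap f hnm) := by
  have : ∀ k, Mono ((upToMap f hnm).app k) := fun k => by
    obtain ⟨k⟩ := k
    by_cases h : k ≤ n
    · have := isIso_upToι A h
      have := isIso_upToι B (h.trans hnm)
      rw [← IsIso.inv_hom_id_assoc (upToι A h) ((upToMap f hnm).app _), upToι_map]
      infer_instance
    · exact ⟨fun a b _ => (isZero_upTo A (k := op k) h).eq_of_tgt a b⟩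
  exact NatTrans.mono_of_mono_app _

variable (T : ℕᵒᵖ ⥤ C) [Injective T]

lemma injective_obj (n : ℕ) : Injective (T.obj (op n)) where
  factors {A B} g f _ := by
    have := mono_upToMap f (le_refl n)
    refine ⟨upToι B le_rfl ≫ (Injective.factorThru (upToLift g) (upToMap f le_rfl)).app (op n), ?_⟩
    rw [← Category.assoc, ← upToι_map f le_rfl le_rfl, Category.assoc, ← NatTrans.comp_app,
      Injective.comp_factorThru, upToι_lift]

lemma exists_section_step (n : ℕ) :
    ∃ s : T.obj (op n) ⟶ T.obj (op (n + 1)), s ≫ T.map (homOfLE (Nat.le_add_right n 1)).op = 𝟙 _ := by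
  let A := T.obj (op n)
  have := mono_upToMap (𝟙 A) (Nat.le_add_right n 1)
  let φ := Injective.factorThru (upToLift (𝟙 A)) (upToMap (𝟙 A) (Nat.le_add_right n 1))
  refine ⟨upToι A le_rfl ≫ φ.app _, ?_⟩
  rw [Category.assoc, ← φ.naturality]
  refine Eq.trans ?_ ((congrArg (fun ψ => upToι A le_rfl ≫ ψ.app (op n))
    (Injective.comp_factorThru (upToLift (𝟙 A))
      (upToMap (𝟙 A) (Nat.le_add_right n 1)))).trans (upToι_lift _))
  rw [NatTrans.comp_app, ← Category.assoc, ← Category.assoc, upToι_map, Category.id_comp]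
  exact congrArg (· ≫ φ.app _) (Sigma.ι_desc _ _)

lemma exists_section {n m : ℕ} (h : n ≤ m) :
    ∃ s : T.obj (op n) ⟶ T.obj (op m), s ≫ T.map (homOfLE h).op = 𝟙 _ := by
  induction m, h using Nat.le_induction with
  | base => exact ⟨𝟙 _, by
      rw [Subsingleton.elim (homOfLE (le_rfl : n ≤ n)) (𝟙 n), op_id, T.map_id, Category.comp_id]⟩
  | succ m h ih =>
    obtain ⟨s, hs⟩ := ih
    obtain ⟨t, ht⟩ := exists_section_step T m
    refine ⟨s ≫ t, ?_⟩
    rw [show (homOfLE (h.trans (Nat.le_add_right m 1)) : n ⟶ m + 1).op =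
      (homOfLE (Nat.le_add_right m 1)).op ≫ (homOfLE h).op from rfl, T.map_comp, Category.assoc,
      reassoc_of% ht, hs]

end Groth.Agent.TowerLib
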