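import Groth.Agent.TowerLib.LimHomology

/-! Homology of the limit of an eventually constant tower, assuming vanishing of `R¹ lim`. -/

universe u

open CategoryTheory CategoryTheory.Limits Opposite

namespace Groth.Agent.TowerLib

section Complex

variable (C : HomologicalComplex AddCommGrpCat.{u} (ComplexShape.up ℤ)) (p q : ℤ)

lemma homologyπ_eq_zero (w : C.cycles q) (hpq : p + 1 = q) :
    C.homologyπ q w = 0 ↔ ∃ y, C.d p q y = C.iCycles q w := by
  have hp : p = q - 1 := by omega
  subst hp
  constructor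
  · intro h
    obtain ⟨y, rfl⟩ := exists_boundary C q w h
    exact ⟨y, (ConcreteCategory.congr_hom (C.toCycles_i (q - 1) q) y).symm⟩
  · rintro ⟨y, hy⟩
    rw [show w = C.toCycles (q - 1) q y from iCycles_injective C q
      (hy.symm.trans (ConcreteCategory.congr_hom (C.toCycles_i (q - 1) q) y).symm)]
    exact homologyπ_toCycles C q _ y

lemma d_iCycles (r : ℤ) (w : C.cycles q) : C.d q r (C.iCycles q w) = 0 :=
  ConcreteCategory.congr_hom (C.iCycles_d q r) w

lemma d_d_apply (r : ℤ) (y : C.X p) : C.d q r (C.d p q y) = 0 :=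
  ConcreteCategory.congr_hom (C.d_comp_d p q r) y

variable {C} {D : HomologicalComplex AddCommGrpCat.{u} (ComplexShape.up ℤ)} (φ : C ⟶ D)

lemma f_iCycles (w : C.cycles q) :
    φ.f q (C.iCycles q w) = D.iCycles q (HomologicalComplex.cyclesMap φ q w) :=
  (ConcreteCategory.congr_hom (HomologicalComplex.cyclesMap_i φ q) w).symm

lemma homologyMap_π (w : C.cycles q) :
    HomologicalComplex.homologyMap φ q (C.homologyπ q w) =
      D.homologyπ q (HomologicalComplex.cyclesMap φ q w) :=
  ConcreteCategory.congr_hom (HomologicalComplex.homologyπ_naturality φ q) w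

lemma f_d (y : C.X p) : φ.f q (C.d p q y) = D.d p q (φ.f p y) :=
  (ConcreteCategory.congr_hom (φ.comm p q) y).symm

end Complex

variable (K : ℕᵒᵖ ⥤ HomologicalComplex AddCommGrpCat.{u} (ComplexShape.up ℤ)) (n : ℤ) (n₀ : ℕ)

/-- Transition maps on homology. -/
noncomputable abbrev trH {m l : ℕ} (h : m ≤ l) :
    (K.obj (op l)).homology n ⟶ (K.obj (op m)).homology n :=
  HomologicalComplex.homologyMap (K.map (homOfLE h).op) n

lemma trH_trH {k m l : ℕ} (h : k ≤ m) (h' : m ≤ l) (x : (K.obj (op l)).homology n) :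
    trH K n h (trH K n h' x) = trH K n (h.trans h') x :=
  tr_tr (K ⋙ HomologicalComplex.homologyFunctor _ _ n) h h' (h.trans h') x

/-- Transition maps in degree `q`. -/
abbrev fX (q : ℤ) {m l : ℕ} (h : m ≤ l) : (K.obj (op l)).X q ⟶ (K.obj (op m)).X q :=
  (K.map (homOfLE h).op).f q

/-- Transition maps on cycles. -/
noncomputable abbrev fC (q : ℤ) {m l : ℕ} (h : m ≤ l) :
    (K.obj (op l)).cycles q ⟶ (K.obj (op m)).cycles q :=
  HomologicalComplex.cyclesMap (K.map (homOfLE h).op) q

/-- `R¹ lim = 0` in degree `q`, elementwise. -/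
def LimX (q : ℤ) : Prop :=
  ∀ a : ∀ m, (K.obj (op m)).X q, ∃ b : ∀ m, (K.obj (op m)).X q,
    ∀ m, b m - fX K q (Nat.le_add_right m 1) (b (m + 1)) = a m

/-- `R¹ lim = 0` on homology in degree `q`, elementwise. -/
def LimH (q : ℤ) : Prop :=
  ∀ a : ∀ m, (K.obj (op m)).homology q, ∃ b : ∀ m, (K.obj (op m)).homology q,
    ∀ m, b m - trH K q (Nat.le_add_right m 1) (b (m + 1)) = a m

variable (hc : ∀ m (h : n₀ ≤ m), IsIso (trH K n h))

include hc in
lemma exists_compatible_classes (x : (K.obj (op n₀)).homology n) :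
    ∃ ξ : ∀ m, (K.obj (op m)).homology n,
      (∀ m, trH K n (Nat.le_add_right m 1) (ξ (m + 1)) = ξ m) ∧ ξ n₀ = x := by
  have hb : ∀ m (h : n₀ ≤ m), Function.Bijective (trH K n h) := fun m h => by
    have := hc m h
    exact ConcreteCategory.bijective_of_isIso (trH K n h)
  let ξ : ∀ m, (K.obj (op m)).homology n := fun m =>
    trH K n (le_max_left m n₀) ((hb (max m n₀) (le_max_right m n₀)).2 x).choose
  have hξ : ∀ m (h : n₀ ≤ m) (y), trH K n h y = x → ∀ k (hk : k ≤ m),
      ξ k = trH K n hk y := by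
    intro m h y hy k hk
    have h' : max k n₀ ≤ m := max_le hk h
    have : ((hb (max k n₀) (le_max_right k n₀)).2 x).choose = trH K n h' y := by
      refine (hb (max k n₀) (le_max_right k n₀)).1 ?_
      rw [((hb (max k n₀) (le_max_right k n₀)).2 x).choose_spec, trH_trH, ← hy]
    show trH K n (le_max_left k n₀) _ = _
    rw [this, trH_trH]
  refine ⟨ξ, fun m => ?_, ?_⟩
  · obtain ⟨y, hy⟩ := (hb (max (m + 1) n₀) (le_max_right _ _)).2 x
    rw [hξ _ _ y hy (m + 1) (le_max_left _ _),
      hξ _ _ y hy m ((Nat.le_add_right m 1).trans (le_max_left _ _)), trH_trH]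
  · obtain ⟨y, hy⟩ := (hb n₀ le_rfl).2 x
    rw [hξ n₀ le_rfl y hy n₀ le_rfl, hy]

variable (h1 : LimX K (n - 1))

include hc h1 in
theorem surjective_homologyMap_π :
    Function.Surjective (HomologicalComplex.homologyMap (limit.π K (op n₀)) n) := by
  intro x
  obtain ⟨ξ, hξ, hξ₀⟩ := exists_compatible_classes K n n₀ hc x
  choose z hz using fun m => exists_cycle_rep (K.obj (op m)) n (ξ m)
  have hbd : ∀ m, ∃ y, (K.obj (op m)).d (n - 1) n y =
      (K.obj (op m)).iCycles n (z m - fC K n (Nat.le_add_right m 1) (z (m + 1))) := fun m => by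
    refine (homologyπ_eq_zero _ (n - 1) n _ (by omega)).1 ?_
    refine (map_sub ((K.obj (op m)).homologyπ n).hom _ _).trans (sub_eq_zero.2 ?_)
    exact (hz m).trans ((hξ m).symm.trans (((homologyπ_tr K n _ _).trans
      (congrArg _ (hz (m + 1)))).symm))
  choose w hw using hbd
  obtain ⟨v, hv⟩ := h1 w
  obtain ⟨c, hcc⟩ := exists_lim K n
    (fun m => (K.obj (op m)).iCycles n (z m) - (K.obj (op m)).d (n - 1) n (v m)) (fun m => by
      show fX K n (Nat.le_add_right m 1) _ = _
      refine (sub_eq_zero.1 ?_).symm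
      have e₁ := hw m
      rw [map_sub, ← hv m, map_sub, ← f_iCycles, ← f_d] at e₁
      rw [map_sub]
      refine Eq.trans ?_ (sub_eq_zero.2 e₁.symm)
      abel)
  obtain ⟨c', hc'⟩ := exists_cycle (limit K) n c (n + 1) rfl (lim_ext K (n + 1) _ _ fun m => by
    rw [map_zero, f_d, hcc, map_sub, d_iCycles, d_d_apply, sub_zero])
  refine ⟨(limit K).homologyπ n c', ?_⟩
  rw [homologyMap_π, ← hξ₀, ← hz n₀]
  refine sub_eq_zero.1 ((map_sub ((K.obj (op n₀)).homologyπ n).hom _ _).symm.trans ?_)
  refine (homologyπ_eq_zero _ (n - 1) n _ (by omega)).2 ⟨-v n₀, ?_⟩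
  rw [map_neg, map_sub, ← f_iCycles, hc', hcc]
  abel

variable (h2 : LimX K (n - 2)) (hb : LimH K (n - 1))

include hc h2 hb in
theorem injective_homologyMap_π :
    Function.Injective (HomologicalComplex.homologyMap (limit.π K (op n₀)) n) := by
  rw [injective_iff_map_eq_zero]
  intro x hx
  obtain ⟨w, rfl⟩ := exists_cycle_rep _ n x
  have hbd : ∀ m, ∃ y, (K.obj (op m)).d (n - 1) n y =
      (limit.π K (op m)).f n ((limit K).iCycles n w) := fun m => by
    rw [f_iCycles]
    refine (homologyπ_eq_zero _ (n - 1) n _ (by omega)).1 ?_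
    rw [← homologyMap_π]
    have hle : n₀ ≤ max m n₀ := le_max_right _ _
    have hl : ∀ {a b : ℕ} (h : a ≤ b),
        trH K n h (HomologicalComplex.homologyMap (limit.π K (op b)) n ((limit K).homologyπ n w)) =
          HomologicalComplex.homologyMap (limit.π K (op a)) n ((limit K).homologyπ n w) := by
      intro a b h
      rw [← ConcreteCategory.comp_apply, ← HomologicalComplex.homologyMap_comp, limit.w]
    rw [← hl (le_max_left m n₀)]
    have h0 : HomologicalComplex.homologyMap (limit.π K (op (max m n₀))) n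
        ((limit K).homologyπ n w) = 0 := by
      have := hc (max m n₀) hle
      refine (ConcreteCategory.bijective_of_isIso (trH K n hle)).1 ?_
      rw [hl hle, hx, map_zero]
    rw [h0, map_zero]
  choose y hy using hbd
  have hcyc : ∀ m, ∃ u : (K.obj (op m)).cycles (n - 1), (K.obj (op m)).iCycles (n - 1) u =
      y m - fX K (n - 1) (Nat.le_add_right m 1) (y (m + 1)) := fun m => by
    refine exists_cycle _ (n - 1) _ n (by omega) ?_
    rw [map_sub]
    refine sub_eq_zero.2 ((hy m).trans ?_)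
    refine Eq.trans ?_ (f_d (n - 1) n (K.map (homOfLE (Nat.le_add_right m 1)).op) (y (m + 1)))
    rw [hy (m + 1)]
    exact (ConcreteCategory.congr_hom (congrArg (fun φ => φ.f n) (limit.w K
      (homOfLE (Nat.le_add_right m 1)).op)) _).symm
  choose cc hcc using hcyc
  obtain ⟨β, hβ⟩ := hb fun m => (K.obj (op m)).homologyπ (n - 1) (cc m)
  choose u hu using fun m => exists_cycle_rep (K.obj (op m)) (n - 1) (β m)
  have hq : ∀ m, ∃ q, (K.obj (op m)).d (n - 2) (n - 1) q = (K.obj (op m)).iCycles (n - 1)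
      (cc m - (u m - fC K (n - 1) (Nat.le_add_right m 1) (u (m + 1)))) := fun m => by
    refine (homologyπ_eq_zero _ (n - 2) (n - 1) _ (by omega)).1 ?_
    refine (map_sub ((K.obj (op m)).homologyπ (n - 1)).hom _ _).trans (sub_eq_zero.2 ?_)
    refine (hβ m).symm.trans ?_
    refine Eq.trans ?_ (map_sub ((K.obj (op m)).homologyπ (n - 1)).hom _ _).symm
    exact congrArg₂ (· - ·) (hu m).symm
      ((congrArg _ (hu (m + 1)).symm).trans (homologyπ_tr K (n - 1) _ _).symm)
  choose q hq using hq
  obtain ⟨r, hr⟩ := h2 q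
  obtain ⟨Y, hY⟩ := exists_lim K (n - 1)
    (fun m => y m - (K.obj (op m)).iCycles (n - 1) (u m) - (K.obj (op m)).d (n - 2) (n - 1) (r m))
    (fun m => by
      show fX K (n - 1) (Nat.le_add_right m 1) _ = _
      refine (sub_eq_zero.1 ?_).symm
      rw [map_sub, map_sub]
      have e₁ : fX K (n - 1) (Nat.le_add_right m 1)
          ((K.obj (op (m + 1))).iCycles (n - 1) (u (m + 1))) =
            (K.obj (op m)).iCycles (n - 1) (fC K (n - 1) (Nat.le_add_right m 1) (u (m + 1))) :=
        f_iCycles (n - 1) (K.map (homOfLE (Nat.le_add_right m 1)).op) (u (m + 1))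
      have e₂ : fX K (n - 1) (Nat.le_add_right m 1)
          ((K.obj (op (m + 1))).d (n - 2) (n - 1) (r (m + 1))) =
            (K.obj (op m)).d (n - 2) (n - 1)
              (fX K (n - 2) (Nat.le_add_right m 1) (r (m + 1))) :=
        f_d (n - 2) (n - 1) (K.map (homOfLE (Nat.le_add_right m 1)).op) (r (m + 1))
      have e₃ := hq m
      rw [map_sub, map_sub, hcc, ← hr m, map_sub, ← e₁, ← e₂] at e₃
      have e : ∀ a b c a' b' c' : (K.obj (op m)).X (n - 1),
          a - b - c - (a' - b' - c') = (a - a' - (b - b')) - (c - c') := by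
        intros; abel
      rw [e]
      exact sub_eq_zero.2 e₃.symm)
  refine (homologyπ_eq_zero _ (n - 1) n _ (by omega)).2 ⟨Y, lim_ext K n _ _ fun m => ?_⟩
  rw [f_d, hY, map_sub, map_sub, d_iCycles, d_d_apply, sub_zero, sub_zero, hy]

include hc h1 h2 hb in
/-- The homology of the limit is the stable value. -/
theorem isIso_homologyMap_π : IsIso (HomologicalComplex.homologyMap (limit.π K (op n₀)) n) :=
  (ConcreteCategory.isIso_iff_bijective _).2
    ⟨injective_homologyMap_π K n n₀ hc h2 hb, surjective_homologyMap_π K n n₀ hc h1⟩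

end Groth.Agent.TowerLib
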